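import Cfsg.Prelude.Def_Solvable
import Mathlib

/-!
Frobenius groups from a normal subgroup and a complement acting without fixed points.
-/

set_option autoImplicit false

namespace Cfsg.Agent.Frobenius.Basic

open scoped Pointwise

variable {G : Type*} [Group G]

/-- A finite normal subgroup with a nontrivial complement that centralises none of its nontrivial
elements: the complement is a Frobenius complement and the subgroup is the Frobenius kernel. -/
theorem isFrobeniusComplement_of_fixedPointFree (N H : Subgroup G) [N.Normal] [Finite N]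
    (hinf : N ⊓ H = ⊥) (hsup : N ⊔ H = ⊤) (hN : N ≠ ⊥) (hH : H ≠ ⊥)
    (hfix : ∀ h ∈ H, h ≠ 1 → ∀ n ∈ N, n * h = h * n → n = 1) :
    Cfsg.IsFrobeniusComplement H ∧ Cfsg.frobeniusKernel H = (N : Set G) := by
  have hdec : ∀ g : G, ∃ n ∈ N, ∃ h ∈ H, g = n * h := fun g => by
    obtain ⟨n, hn, h, hh, rfl⟩ := Subgroup.mem_sup_of_normal_left.mp
      (show g ∈ N ⊔ H by rw [hsup]; exact Subgroup.mem_top g)
    exact ⟨n, hn, h, hh, rfl⟩
  have hbot : ∀ x, x ∈ N → x ∈ H → x = 1 := fun x h1 h2 =>
    (Subgroup.mem_bot).mp (hinf ▸ Subgroup.mem_inf.mpr ⟨h1, h2⟩)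
  have hmem : ∀ g x : G, x ∈ MulAut.conj g • H ↔ g⁻¹ * x * g ∈ H := fun g x => by
    rw [Subgroup.mem_pointwise_smul_iff_inv_smul_mem, ← map_inv]
    simp [MulAut.smul_def]
  refine ⟨⟨hH, fun h => hN ?_, fun g hg => ?_⟩, ?_⟩
  · rw [h, inf_top_eq] at hinf
    exact hinf
  · rw [Subgroup.eq_bot_iff_forall]
    rintro z ⟨hz1, hz2⟩
    replace hz2 := (hmem g z).mp hz2
    by_contra hz
    apply hg
    obtain ⟨n, hn, h, hh, rfl⟩ := hdec g
    -- move `z` back inside `H`
    set w := n⁻¹ * z * n with hw
    have hwH : w ∈ H := by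
      have := mul_mem (mul_mem hh hz2) (inv_mem hh)
      convert this using 1
      simp only [hw]; group
    have h3 : z⁻¹ * w ∈ N := by
      have := mul_mem (‹N.Normal›.conj_mem _ (inv_mem hn) z⁻¹) hn
      convert this using 1
      simp only [hw, inv_inv]; group
    have h4 : w = z := by
      have := hbot _ h3 (mul_mem (inv_mem hz1) hwH)
      rwa [inv_mul_eq_one, eq_comm] at this
    have hn1 : n = 1 := hfix z hz1 hz n hn (by
      rw [hw, mul_assoc, inv_mul_eq_iff_eq_mul] at h4
      exact h4.symm)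
    rw [hn1, one_mul]
    exact hh
  · ext x
    simp only [Cfsg.frobeniusKernel, Set.mem_ofPred_eq, SetLike.mem_coe, hmem]
    constructor
    · rintro (rfl | hx)
      · exact one_mem N
      obtain ⟨n, hn, h, hh, rfl⟩ := hdec x
      by_contra hxN
      have hh1 : h ≠ 1 := by rintro rfl; exact hxN (by simpa using hn)
      let f : N → N := fun m => ⟨(m : G) * (h * (m : G)⁻¹ * h⁻¹),
        mul_mem m.2 (‹N.Normal›.conj_mem _ (inv_mem m.2) h)⟩
      have hf : Function.Injective f := by
        intro a b hab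
        have e : (a : G) * (h * (a : G)⁻¹ * h⁻¹) = (b : G) * (h * (b : G)⁻¹ * h⁻¹) :=
          congrArg Subtype.val hab
        have h5 : ((b : G)⁻¹ * a) * h = h * ((b : G)⁻¹ * a) := by
          calc ((b : G)⁻¹ * a) * h = (b : G)⁻¹ * ((a : G) * (h * (a : G)⁻¹ * h⁻¹)) * h * a := by
                group
            _ = (b : G)⁻¹ * ((b : G) * (h * (b : G)⁻¹ * h⁻¹)) * h * a := by rw [e]
            _ = _ := by group
        have := hfix h hh hh1 _ (mul_mem (inv_mem b.2) a.2) h5
        rw [inv_mul_eq_one] at this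
        exact Subtype.ext this.symm
      obtain ⟨m, hm⟩ := (Finite.injective_iff_surjective.mp hf) ⟨n, hn⟩
      have hm' : (m : G) * (h * (m : G)⁻¹ * h⁻¹) = n := congrArg Subtype.val hm
      apply hx (m : G)
      have : (m : G)⁻¹ * (n * h) * m = h := by
        rw [← hm']; group
      rw [this]; exact hh
    · intro hx
      by_cases hx1 : x = 1
      · exact Or.inl hx1
      refine Or.inr fun g hg => hx1 ?_
      have h1 : g⁻¹ * x * g ∈ N := by simpa using ‹N.Normal›.conj_mem x hx g⁻¹
      have h6 := hbot _ h1 hg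
      calc x = g * (g⁻¹ * x * g) * g⁻¹ := by group
        _ = 1 := by rw [h6]; group

end Cfsg.Agent.Frobenius.Basic
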